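import Cfsg.Agent.Lib.Sporadic.LyIndex.Sylow.OrdNodes0

/-!
# Elements of orders 11, 37 and 67
-/

set_option autoImplicit false
set_option maxRecDepth 100000

namespace CfsgLib.Sporadic.CosetCert.LyIndex.Ord

open LyG2Five WideMatrix

theorem order11_chk : orderIs node0 11 = true := by decide +kernel

theorem dvd11 : 11 ∣ Nat.card LyIndex.rho.range :=
  orderIs_spec (by norm_num) node0_in order11_chk

theorem order37_chk : orderIs node2 37 = true := by decide +kernel

theorem dvd37 : 37 ∣ Nat.card LyIndex.rho.range :=
  orderIs_spec (by norm_num) node2_in order37_chk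

theorem order67_chk : orderIs node4 67 = true := by decide +kernel

theorem dvd67 : 67 ∣ Nat.card LyIndex.rho.range :=
  orderIs_spec (by norm_num) node4_in order67_chk

end CfsgLib.Sporadic.CosetCert.LyIndex.Ord
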