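import Cfsg.Agent.Lib.Sporadic.LyIndex.Sylow.TwoNodes2
import Cfsg.Agent.Lib.Sporadic.LyIndex.Sylow.TwoOrbit

/-!
# A divisor 256 of the order of the presented Lyons group
-/

set_option autoImplicit false
set_option maxRecDepth 100000

namespace CfsgLib.Sporadic.CosetCert.LyIndex.Two

open LyG2Five WideMatrix Wide

/-- The matrices. -/
def gens : List (List ℕ) := [node10, node12, node14]

/-- An entry of a table in chunks of 64. -/
def look {α : Type} (d : α) (T : List (List α)) (n : ℕ) : α :=
  (T.getD (Nat.div n 64) []).getD (Nat.mod n 64) d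

theorem gens_in : ∀ G ∈ gens, InRho G :=
  List.forall_mem_cons.2 ⟨node10_in, List.forall_mem_cons.2 ⟨node12_in, List.forall_mem_cons.2 ⟨node14_in, List.forall_mem_nil _⟩⟩⟩

theorem chk0 : ∀ t < 512, Nat.ble 256 (0 + t) = true ∨
    treeOne 111 (unitRow 0) 256 (look 0 ptsTab) (look 0 codesTab) (look [] succsTab) gens (0 + t) = true := by
  decide +kernel

theorem chk : ∀ t < 256,
    treeOne 111 (unitRow 0) 256 (look 0 ptsTab) (look 0 codesTab) (look [] succsTab) gens t = true := by
  intro t ht
  rcases chk0 (t - 0) (by omega) with h | h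
  · exact absurd (Nat.le_of_ble_eq_true h) (by omega)
  · rwa [show 0 + (t - 0) = t by omega] at h

theorem dvd : 256 ∣ Nat.card LyIndex.rho.range := by
  choose g hg using fun G (hG : G ∈ gens) => (gens_in G hG).2
  refine (tree_dvd (n := 111) (k := 0) (by norm_num) (by norm_num) (by norm_num) (N := 256) (by norm_num) _ _ _ gens
    (fun G hG => (gens_in G hG).1) (fun s => ((g _ (List.get_mem gens s) : LyIndex.rho.range) : M111ˣ))
    (fun s => hg _ (List.get_mem gens s)) chk).trans (Subgroup.card_dvd_of_le ?_)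
  rw [Subgroup.closure_le]
  rintro _ ⟨s, rfl⟩
  exact (g _ (List.get_mem gens s)).2

end CfsgLib.Sporadic.CosetCert.LyIndex.Two
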