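import Cfsg.Agent.Lib.Sporadic.LyIndex.LyRep
import Cfsg.Agent.Lib.Sporadic.LyIndex.Sylow.OrdData0

/-!
# The matrices are products of letters, part 0
-/

set_option autoImplicit false
set_option maxRecDepth 100000

namespace CfsgLib.Sporadic.CosetCert.LyIndex.Ord

open LyG2Five WideMatrix

theorem node0_chk : okRows 111 node0 = true ∧ prodIs [LyG2Five.lett111 7, LyG2Five.lett111 4, LyG2Five.lett111 3, LyG2Five.lett111 5, LyG2Five.lett111 9, LyG2Five.lett111 5] node0 = true := by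
  decide +kernel

theorem node0_in : InRho node0 :=
  prodIs_spec (List.forall_mem_cons.2 ⟨inRho_lett 7,
    List.forall_mem_cons.2 ⟨inRho_lett 4,
    List.forall_mem_cons.2 ⟨inRho_lett 3,
    List.forall_mem_cons.2 ⟨inRho_lett 5,
    List.forall_mem_cons.2 ⟨inRho_lett 9,
    List.forall_mem_cons.2 ⟨inRho_lett 5,
    List.forall_mem_nil _⟩⟩⟩⟩⟩⟩) node0_chk.1 node0_chk.2

theorem node2_chk : okRows 111 node2 = true ∧ prodIs [LyG2Five.lett111 6, LyG2Five.lett111 5, LyG2Five.lett111 0, LyG2Five.lett111 10] node2 = true := by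
  decide +kernel

theorem node2_in : InRho node2 :=
  prodIs_spec (List.forall_mem_cons.2 ⟨inRho_lett 6,
    List.forall_mem_cons.2 ⟨inRho_lett 5,
    List.forall_mem_cons.2 ⟨inRho_lett 0,
    List.forall_mem_cons.2 ⟨inRho_lett 10,
    List.forall_mem_nil _⟩⟩⟩⟩) node2_chk.1 node2_chk.2

theorem node4_chk : okRows 111 node4 = true ∧ prodIs [LyG2Five.lett111 3, LyG2Five.lett111 5, LyG2Five.lett111 10, LyG2Five.lett111 5, LyG2Five.lett111 7] node4 = true := by
  decide +kernel

theorem node4_in : InRho node4 :=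
  prodIs_spec (List.forall_mem_cons.2 ⟨inRho_lett 3,
    List.forall_mem_cons.2 ⟨inRho_lett 5,
    List.forall_mem_cons.2 ⟨inRho_lett 10,
    List.forall_mem_cons.2 ⟨inRho_lett 5,
    List.forall_mem_cons.2 ⟨inRho_lett 7,
    List.forall_mem_nil _⟩⟩⟩⟩⟩) node4_chk.1 node4_chk.2

end CfsgLib.Sporadic.CosetCert.LyIndex.Ord
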