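import Cfsg.Agent.Lib.Sporadic.LyIndex.LyRep
import Cfsg.Agent.Lib.Sporadic.LyIndex.Sylow.ThreeData0
import Cfsg.Agent.Lib.Sporadic.LyIndex.Sylow.ThreeData1
import Cfsg.Agent.Lib.Sporadic.LyIndex.Sylow.ThreeData2
import Cfsg.Agent.Lib.Sporadic.LyIndex.Sylow.ThreeData3

/-!
# The matrices are products of letters, part 0
-/

set_option autoImplicit false
set_option maxRecDepth 100000

namespace CfsgLib.Sporadic.CosetCert.LyIndex.Three

open LyG2Five WideMatrix

theorem node2_chk : okRows 111 node2 = true ∧ prodIs [LyG2Five.lett111 7, LyG2Five.lett111 9, LyG2Five.lett111 0] node2 = true := by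
  decide +kernel

theorem node2_in : InRho node2 :=
  prodIs_spec (List.forall_mem_cons.2 ⟨inRho_lett 7,
    List.forall_mem_cons.2 ⟨inRho_lett 9,
    List.forall_mem_cons.2 ⟨inRho_lett 0,
    List.forall_mem_nil _⟩⟩⟩) node2_chk.1 node2_chk.2

theorem node4_chk : okRows 111 node4 = true ∧ prodIs [LyG2Five.lett111 2, LyG2Five.lett111 1, LyG2Five.lett111 6, LyG2Five.lett111 3] node4 = true := by
  decide +kernel

theorem node4_in : InRho node4 :=
  prodIs_spec (List.forall_mem_cons.2 ⟨inRho_lett 2,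
    List.forall_mem_cons.2 ⟨inRho_lett 1,
    List.forall_mem_cons.2 ⟨inRho_lett 6,
    List.forall_mem_cons.2 ⟨inRho_lett 3,
    List.forall_mem_nil _⟩⟩⟩⟩) node4_chk.1 node4_chk.2

theorem node16_chk : okRows 111 node16 = true ∧ prodIs [node2, node4] node16 = true := by
  decide +kernel

theorem node16_in : InRho node16 :=
  prodIs_spec (List.forall_mem_cons.2 ⟨node2_in,
    List.forall_mem_cons.2 ⟨node4_in,
    List.forall_mem_nil _⟩⟩) node16_chk.1 node16_chk.2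

theorem node8_chk : okRows 111 node8 = true ∧ prodIs [LyG2Five.lett111 5, LyG2Five.lett111 0, LyG2Five.lett111 4, LyG2Five.lett111 7, LyG2Five.lett111 7, LyG2Five.lett111 5, LyG2Five.lett111 1, LyG2Five.lett111 4, LyG2Five.lett111 7, LyG2Five.lett111 7, LyG2Five.lett111 5, LyG2Five.lett111 0, LyG2Five.lett111 4, LyG2Five.lett111 7, LyG2Five.lett111 7, LyG2Five.lett111 5, LyG2Five.lett111 1, LyG2Five.lett111 4, LyG2Five.lett111 7, LyG2Five.lett111 7, LyG2Five.lett111 5, LyG2Five.lett111 0, LyG2Five.lett111 4] node8 = true := by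
  decide +kernel

theorem node8_in : InRho node8 :=
  prodIs_spec (List.forall_mem_cons.2 ⟨inRho_lett 5,
    List.forall_mem_cons.2 ⟨inRho_lett 0,
    List.forall_mem_cons.2 ⟨inRho_lett 4,
    List.forall_mem_cons.2 ⟨inRho_lett 7,
    List.forall_mem_cons.2 ⟨inRho_lett 7,
    List.forall_mem_cons.2 ⟨inRho_lett 5,
    List.forall_mem_cons.2 ⟨inRho_lett 1,
    List.forall_mem_cons.2 ⟨inRho_lett 4,
    List.forall_mem_cons.2 ⟨inRho_lett 7,
    List.forall_mem_cons.2 ⟨inRho_lett 7,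
    List.forall_mem_cons.2 ⟨inRho_lett 5,
    List.forall_mem_cons.2 ⟨inRho_lett 0,
    List.forall_mem_cons.2 ⟨inRho_lett 4,
    List.forall_mem_cons.2 ⟨inRho_lett 7,
    List.forall_mem_cons.2 ⟨inRho_lett 7,
    List.forall_mem_cons.2 ⟨inRho_lett 5,
    List.forall_mem_cons.2 ⟨inRho_lett 1,
    List.forall_mem_cons.2 ⟨inRho_lett 4,
    List.forall_mem_cons.2 ⟨inRho_lett 7,
    List.forall_mem_cons.2 ⟨inRho_lett 7,
    List.forall_mem_cons.2 ⟨inRho_lett 5,
    List.forall_mem_cons.2 ⟨inRho_lett 0,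
    List.forall_mem_cons.2 ⟨inRho_lett 4,
    List.forall_mem_nil _⟩⟩⟩⟩⟩⟩⟩⟩⟩⟩⟩⟩⟩⟩⟩⟩⟩⟩⟩⟩⟩⟩⟩) node8_chk.1 node8_chk.2

end CfsgLib.Sporadic.CosetCert.LyIndex.Three
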