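import Cfsg.Agent.Lib.Sporadic.LyIndex.LyRep
import Cfsg.Agent.Lib.Sporadic.LyIndex.Sylow.ThreeData0
import Cfsg.Agent.Lib.Sporadic.LyIndex.Sylow.ThreeData1
import Cfsg.Agent.Lib.Sporadic.LyIndex.Sylow.ThreeData2
import Cfsg.Agent.Lib.Sporadic.LyIndex.Sylow.ThreeData3
import Cfsg.Agent.Lib.Sporadic.LyIndex.Sylow.ThreeNodes0

/-!
# The matrices are products of letters, part 1
-/

set_option autoImplicit false
set_option maxRecDepth 100000

namespace CfsgLib.Sporadic.CosetCert.LyIndex.Three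

open LyG2Five WideMatrix

theorem node18_chk : okRows 111 node18 = true ∧ prodIs [node2, node8] node18 = true := by
  decide +kernel

theorem node18_in : InRho node18 :=
  prodIs_spec (List.forall_mem_cons.2 ⟨node2_in,
    List.forall_mem_cons.2 ⟨node8_in,
    List.forall_mem_nil _⟩⟩) node18_chk.1 node18_chk.2

theorem node0_chk : okRows 111 node0 = true ∧ prodIs [LyG2Five.lett111 3, LyG2Five.lett111 0] node0 = true := by
  decide +kernel

theorem node0_in : InRho node0 :=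
  prodIs_spec (List.forall_mem_cons.2 ⟨inRho_lett 3,
    List.forall_mem_cons.2 ⟨inRho_lett 0,
    List.forall_mem_nil _⟩⟩) node0_chk.1 node0_chk.2

theorem node6_chk : okRows 111 node6 = true ∧ prodIs [LyG2Five.lett111 5, LyG2Five.lett111 9, LyG2Five.lett111 7, LyG2Five.lett111 7, LyG2Five.lett111 10, LyG2Five.lett111 4, LyG2Five.lett111 7, LyG2Five.lett111 7, LyG2Five.lett111 5, LyG2Five.lett111 9, LyG2Five.lett111 7, LyG2Five.lett111 7, LyG2Five.lett111 10, LyG2Five.lett111 4, LyG2Five.lett111 7, LyG2Five.lett111 7, LyG2Five.lett111 5, LyG2Five.lett111 9] node6 = true := by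
  decide +kernel

theorem node6_in : InRho node6 :=
  prodIs_spec (List.forall_mem_cons.2 ⟨inRho_lett 5,
    List.forall_mem_cons.2 ⟨inRho_lett 9,
    List.forall_mem_cons.2 ⟨inRho_lett 7,
    List.forall_mem_cons.2 ⟨inRho_lett 7,
    List.forall_mem_cons.2 ⟨inRho_lett 10,
    List.forall_mem_cons.2 ⟨inRho_lett 4,
    List.forall_mem_cons.2 ⟨inRho_lett 7,
    List.forall_mem_cons.2 ⟨inRho_lett 7,
    List.forall_mem_cons.2 ⟨inRho_lett 5,
    List.forall_mem_cons.2 ⟨inRho_lett 9,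
    List.forall_mem_cons.2 ⟨inRho_lett 7,
    List.forall_mem_cons.2 ⟨inRho_lett 7,
    List.forall_mem_cons.2 ⟨inRho_lett 10,
    List.forall_mem_cons.2 ⟨inRho_lett 4,
    List.forall_mem_cons.2 ⟨inRho_lett 7,
    List.forall_mem_cons.2 ⟨inRho_lett 7,
    List.forall_mem_cons.2 ⟨inRho_lett 5,
    List.forall_mem_cons.2 ⟨inRho_lett 9,
    List.forall_mem_nil _⟩⟩⟩⟩⟩⟩⟩⟩⟩⟩⟩⟩⟩⟩⟩⟩⟩⟩) node6_chk.1 node6_chk.2

theorem node1_chk : okRows 111 node1 = true ∧ prodIs [LyG2Five.lett111 1, LyG2Five.lett111 2] node1 = true := by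
  decide +kernel

theorem node1_in : InRho node1 :=
  prodIs_spec (List.forall_mem_cons.2 ⟨inRho_lett 1,
    List.forall_mem_cons.2 ⟨inRho_lett 2,
    List.forall_mem_nil _⟩⟩) node1_chk.1 node1_chk.2

end CfsgLib.Sporadic.CosetCert.LyIndex.Three
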