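import Cfsg.Agent.Lib.Sporadic.LyIndex.LyRep
import Cfsg.Agent.Lib.Sporadic.LyIndex.Sylow.ThreeData0
import Cfsg.Agent.Lib.Sporadic.LyIndex.Sylow.ThreeData1
import Cfsg.Agent.Lib.Sporadic.LyIndex.Sylow.ThreeData2
import Cfsg.Agent.Lib.Sporadic.LyIndex.Sylow.ThreeData3
import Cfsg.Agent.Lib.Sporadic.LyIndex.Sylow.ThreeNodes1

/-!
# The matrices are products of letters, part 2
-/

set_option autoImplicit false
set_option maxRecDepth 100000

namespace CfsgLib.Sporadic.CosetCert.LyIndex.Three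

open LyG2Five WideMatrix

theorem node20_chk : okRows 111 node20 = true ∧ prodIs [node0, node6, node1] node20 = true := by
  decide +kernel

theorem node20_in : InRho node20 :=
  prodIs_spec (List.forall_mem_cons.2 ⟨node0_in,
    List.forall_mem_cons.2 ⟨node6_in,
    List.forall_mem_cons.2 ⟨node1_in,
    List.forall_mem_nil _⟩⟩⟩) node20_chk.1 node20_chk.2

theorem node22_chk : okRows 111 node22 = true ∧ prodIs [node0, node0, node4, node0, node0] node22 = true := by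
  decide +kernel

theorem node22_in : InRho node22 :=
  prodIs_spec (List.forall_mem_cons.2 ⟨node0_in,
    List.forall_mem_cons.2 ⟨node0_in,
    List.forall_mem_cons.2 ⟨node4_in,
    List.forall_mem_cons.2 ⟨node0_in,
    List.forall_mem_cons.2 ⟨node0_in,
    List.forall_mem_nil _⟩⟩⟩⟩⟩) node22_chk.1 node22_chk.2

theorem node24_chk : okRows 111 node24 = true ∧ prodIs [node0, node2, node4, LyG2Five.lett111 10, LyG2Five.lett111 5, LyG2Five.lett111 2, LyG2Five.lett111 5, LyG2Five.lett111 0, node22, LyG2Five.lett111 1, LyG2Five.lett111 4, LyG2Five.lett111 3, LyG2Five.lett111 4, LyG2Five.lett111 9, LyG2Five.lett111 7, LyG2Five.lett111 7, LyG2Five.lett111 10, LyG2Five.lett111 5, LyG2Five.lett111 2, LyG2Five.lett111 5, LyG2Five.lett111 0, node22] node24 = true := by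
  decide +kernel

theorem node24_in : InRho node24 :=
  prodIs_spec (List.forall_mem_cons.2 ⟨node0_in,
    List.forall_mem_cons.2 ⟨node2_in,
    List.forall_mem_cons.2 ⟨node4_in,
    List.forall_mem_cons.2 ⟨inRho_lett 10,
    List.forall_mem_cons.2 ⟨inRho_lett 5,
    List.forall_mem_cons.2 ⟨inRho_lett 2,
    List.forall_mem_cons.2 ⟨inRho_lett 5,
    List.forall_mem_cons.2 ⟨inRho_lett 0,
    List.forall_mem_cons.2 ⟨node22_in,
    List.forall_mem_cons.2 ⟨inRho_lett 1,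
    List.forall_mem_cons.2 ⟨inRho_lett 4,
    List.forall_mem_cons.2 ⟨inRho_lett 3,
    List.forall_mem_cons.2 ⟨inRho_lett 4,
    List.forall_mem_cons.2 ⟨inRho_lett 9,
    List.forall_mem_cons.2 ⟨inRho_lett 7,
    List.forall_mem_cons.2 ⟨inRho_lett 7,
    List.forall_mem_cons.2 ⟨inRho_lett 10,
    List.forall_mem_cons.2 ⟨inRho_lett 5,
    List.forall_mem_cons.2 ⟨inRho_lett 2,
    List.forall_mem_cons.2 ⟨inRho_lett 5,
    List.forall_mem_cons.2 ⟨inRho_lett 0,
    List.forall_mem_cons.2 ⟨node22_in,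
    List.forall_mem_nil _⟩⟩⟩⟩⟩⟩⟩⟩⟩⟩⟩⟩⟩⟩⟩⟩⟩⟩⟩⟩⟩⟩) node24_chk.1 node24_chk.2

theorem node7_chk : okRows 111 node7 = true ∧ prodIs [LyG2Five.lett111 10, LyG2Five.lett111 4, LyG2Five.lett111 6, LyG2Five.lett111 6, LyG2Five.lett111 5, LyG2Five.lett111 9, LyG2Five.lett111 6, LyG2Five.lett111 6, LyG2Five.lett111 10, LyG2Five.lett111 4, LyG2Five.lett111 6, LyG2Five.lett111 6, LyG2Five.lett111 5, LyG2Five.lett111 9, LyG2Five.lett111 6, LyG2Five.lett111 6, LyG2Five.lett111 10, LyG2Five.lett111 4] node7 = true := by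
  decide +kernel

theorem node7_in : InRho node7 :=
  prodIs_spec (List.forall_mem_cons.2 ⟨inRho_lett 10,
    List.forall_mem_cons.2 ⟨inRho_lett 4,
    List.forall_mem_cons.2 ⟨inRho_lett 6,
    List.forall_mem_cons.2 ⟨inRho_lett 6,
    List.forall_mem_cons.2 ⟨inRho_lett 5,
    List.forall_mem_cons.2 ⟨inRho_lett 9,
    List.forall_mem_cons.2 ⟨inRho_lett 6,
    List.forall_mem_cons.2 ⟨inRho_lett 6,
    List.forall_mem_cons.2 ⟨inRho_lett 10,
    List.forall_mem_cons.2 ⟨inRho_lett 4,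
    List.forall_mem_cons.2 ⟨inRho_lett 6,
    List.forall_mem_cons.2 ⟨inRho_lett 6,
    List.forall_mem_cons.2 ⟨inRho_lett 5,
    List.forall_mem_cons.2 ⟨inRho_lett 9,
    List.forall_mem_cons.2 ⟨inRho_lett 6,
    List.forall_mem_cons.2 ⟨inRho_lett 6,
    List.forall_mem_cons.2 ⟨inRho_lett 10,
    List.forall_mem_cons.2 ⟨inRho_lett 4,
    List.forall_mem_nil _⟩⟩⟩⟩⟩⟩⟩⟩⟩⟩⟩⟩⟩⟩⟩⟩⟩⟩) node7_chk.1 node7_chk.2

end CfsgLib.Sporadic.CosetCert.LyIndex.Three
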