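import Cfsg.Agent.Lib.Sporadic.LyIndex.LyRep
import Cfsg.Agent.Lib.Sporadic.LyIndex.Sylow.ThreeData0
import Cfsg.Agent.Lib.Sporadic.LyIndex.Sylow.ThreeData1
import Cfsg.Agent.Lib.Sporadic.LyIndex.Sylow.ThreeData2
import Cfsg.Agent.Lib.Sporadic.LyIndex.Sylow.ThreeData3
import Cfsg.Agent.Lib.Sporadic.LyIndex.Sylow.ThreeNodes2

/-!
# The matrices are products of letters, part 3
-/

set_option autoImplicit false
set_option maxRecDepth 100000

namespace CfsgLib.Sporadic.CosetCert.LyIndex.Three

open LyG2Five WideMatrix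

theorem node21_chk : okRows 111 node21 = true ∧ prodIs [node0, node7, node1] node21 = true := by
  decide +kernel

theorem node21_in : InRho node21 :=
  prodIs_spec (List.forall_mem_cons.2 ⟨node0_in,
    List.forall_mem_cons.2 ⟨node7_in,
    List.forall_mem_cons.2 ⟨node1_in,
    List.forall_mem_nil _⟩⟩⟩) node21_chk.1 node21_chk.2

theorem node5_chk : okRows 111 node5 = true ∧ prodIs [LyG2Five.lett111 2, LyG2Five.lett111 7, LyG2Five.lett111 0, LyG2Five.lett111 3] node5 = true := by
  decide +kernel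

theorem node5_in : InRho node5 :=
  prodIs_spec (List.forall_mem_cons.2 ⟨inRho_lett 2,
    List.forall_mem_cons.2 ⟨inRho_lett 7,
    List.forall_mem_cons.2 ⟨inRho_lett 0,
    List.forall_mem_cons.2 ⟨inRho_lett 3,
    List.forall_mem_nil _⟩⟩⟩⟩) node5_chk.1 node5_chk.2

theorem node23_chk : okRows 111 node23 = true ∧ prodIs [node1, node1, node5, node1, node1] node23 = true := by
  decide +kernel

theorem node23_in : InRho node23 :=
  prodIs_spec (List.forall_mem_cons.2 ⟨node1_in,
    List.forall_mem_cons.2 ⟨node1_in,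
    List.forall_mem_cons.2 ⟨node5_in,
    List.forall_mem_cons.2 ⟨node1_in,
    List.forall_mem_cons.2 ⟨node1_in,
    List.forall_mem_nil _⟩⟩⟩⟩⟩) node23_chk.1 node23_chk.2

theorem node3_chk : okRows 111 node3 = true ∧ prodIs [LyG2Five.lett111 1, LyG2Five.lett111 10, LyG2Five.lett111 6] node3 = true := by
  decide +kernel

theorem node3_in : InRho node3 :=
  prodIs_spec (List.forall_mem_cons.2 ⟨inRho_lett 1,
    List.forall_mem_cons.2 ⟨inRho_lett 10,
    List.forall_mem_cons.2 ⟨inRho_lett 6,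
    List.forall_mem_nil _⟩⟩⟩) node3_chk.1 node3_chk.2

end CfsgLib.Sporadic.CosetCert.LyIndex.Three
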