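import Cfsg.Agent.Lib.Sporadic.LyIndex.LyRep
import Cfsg.Agent.Lib.Sporadic.LyIndex.Sylow.ThreeData0
import Cfsg.Agent.Lib.Sporadic.LyIndex.Sylow.ThreeData1
import Cfsg.Agent.Lib.Sporadic.LyIndex.Sylow.ThreeData2
import Cfsg.Agent.Lib.Sporadic.LyIndex.Sylow.ThreeData3
import Cfsg.Agent.Lib.Sporadic.LyIndex.Sylow.ThreeNodes3

/-!
# The matrices are products of letters, part 4
-/

set_option autoImplicit false
set_option maxRecDepth 100000

namespace CfsgLib.Sporadic.CosetCert.LyIndex.Three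

open LyG2Five WideMatrix

theorem node25_chk : okRows 111 node25 = true ∧ prodIs [node23, LyG2Five.lett111 1, LyG2Five.lett111 4, LyG2Five.lett111 3, LyG2Five.lett111 4, LyG2Five.lett111 9, LyG2Five.lett111 6, LyG2Five.lett111 6, LyG2Five.lett111 10, LyG2Five.lett111 5, LyG2Five.lett111 2, LyG2Five.lett111 5, LyG2Five.lett111 0, node23, LyG2Five.lett111 1, LyG2Five.lett111 4, LyG2Five.lett111 3, LyG2Five.lett111 4, LyG2Five.lett111 9, node5, node3, node1] node25 = true := by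
  decide +kernel

theorem node25_in : InRho node25 :=
  prodIs_spec (List.forall_mem_cons.2 ⟨node23_in,
    List.forall_mem_cons.2 ⟨inRho_lett 1,
    List.forall_mem_cons.2 ⟨inRho_lett 4,
    List.forall_mem_cons.2 ⟨inRho_lett 3,
    List.forall_mem_cons.2 ⟨inRho_lett 4,
    List.forall_mem_cons.2 ⟨inRho_lett 9,
    List.forall_mem_cons.2 ⟨inRho_lett 6,
    List.forall_mem_cons.2 ⟨inRho_lett 6,
    List.forall_mem_cons.2 ⟨inRho_lett 10,
    List.forall_mem_cons.2 ⟨inRho_lett 5,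
    List.forall_mem_cons.2 ⟨inRho_lett 2,
    List.forall_mem_cons.2 ⟨inRho_lett 5,
    List.forall_mem_cons.2 ⟨inRho_lett 0,
    List.forall_mem_cons.2 ⟨node23_in,
    List.forall_mem_cons.2 ⟨inRho_lett 1,
    List.forall_mem_cons.2 ⟨inRho_lett 4,
    List.forall_mem_cons.2 ⟨inRho_lett 3,
    List.forall_mem_cons.2 ⟨inRho_lett 4,
    List.forall_mem_cons.2 ⟨inRho_lett 9,
    List.forall_mem_cons.2 ⟨node5_in,
    List.forall_mem_cons.2 ⟨node3_in,
    List.forall_mem_cons.2 ⟨node1_in,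
    List.forall_mem_nil _⟩⟩⟩⟩⟩⟩⟩⟩⟩⟩⟩⟩⟩⟩⟩⟩⟩⟩⟩⟩⟩⟩) node25_chk.1 node25_chk.2

theorem node26_chk : okRows 111 node26 = true ∧ prodIs [node16, node18, node20, node24, node20, node20, node18, node18, node24, node16, node21, node21, node25, node21, node25, node25, node25, node25] node26 = true := by
  decide +kernel

theorem node26_in : InRho node26 :=
  prodIs_spec (List.forall_mem_cons.2 ⟨node16_in,
    List.forall_mem_cons.2 ⟨node18_in,
    List.forall_mem_cons.2 ⟨node20_in,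
    List.forall_mem_cons.2 ⟨node24_in,
    List.forall_mem_cons.2 ⟨node20_in,
    List.forall_mem_cons.2 ⟨node20_in,
    List.forall_mem_cons.2 ⟨node18_in,
    List.forall_mem_cons.2 ⟨node18_in,
    List.forall_mem_cons.2 ⟨node24_in,
    List.forall_mem_cons.2 ⟨node16_in,
    List.forall_mem_cons.2 ⟨node21_in,
    List.forall_mem_cons.2 ⟨node21_in,
    List.forall_mem_cons.2 ⟨node25_in,
    List.forall_mem_cons.2 ⟨node21_in,
    List.forall_mem_cons.2 ⟨node25_in,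
    List.forall_mem_cons.2 ⟨node25_in,
    List.forall_mem_cons.2 ⟨node25_in,
    List.forall_mem_cons.2 ⟨node25_in,
    List.forall_mem_nil _⟩⟩⟩⟩⟩⟩⟩⟩⟩⟩⟩⟩⟩⟩⟩⟩⟩⟩) node26_chk.1 node26_chk.2

theorem node9_chk : okRows 111 node9 = true ∧ prodIs [LyG2Five.lett111 5, LyG2Five.lett111 1, LyG2Five.lett111 4, LyG2Five.lett111 6, LyG2Five.lett111 6, LyG2Five.lett111 5, LyG2Five.lett111 0, LyG2Five.lett111 4, LyG2Five.lett111 6, LyG2Five.lett111 6, LyG2Five.lett111 5, LyG2Five.lett111 1, LyG2Five.lett111 4, LyG2Five.lett111 6, LyG2Five.lett111 6, LyG2Five.lett111 5, LyG2Five.lett111 0, LyG2Five.lett111 4, LyG2Five.lett111 6, LyG2Five.lett111 6, LyG2Five.lett111 5, LyG2Five.lett111 1, LyG2Five.lett111 4] node9 = true := by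
  decide +kernel

theorem node9_in : InRho node9 :=
  prodIs_spec (List.forall_mem_cons.2 ⟨inRho_lett 5,
    List.forall_mem_cons.2 ⟨inRho_lett 1,
    List.forall_mem_cons.2 ⟨inRho_lett 4,
    List.forall_mem_cons.2 ⟨inRho_lett 6,
    List.forall_mem_cons.2 ⟨inRho_lett 6,
    List.forall_mem_cons.2 ⟨inRho_lett 5,
    List.forall_mem_cons.2 ⟨inRho_lett 0,
    List.forall_mem_cons.2 ⟨inRho_lett 4,
    List.forall_mem_cons.2 ⟨inRho_lett 6,
    List.forall_mem_cons.2 ⟨inRho_lett 6,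
    List.forall_mem_cons.2 ⟨inRho_lett 5,
    List.forall_mem_cons.2 ⟨inRho_lett 1,
    List.forall_mem_cons.2 ⟨inRho_lett 4,
    List.forall_mem_cons.2 ⟨inRho_lett 6,
    List.forall_mem_cons.2 ⟨inRho_lett 6,
    List.forall_mem_cons.2 ⟨inRho_lett 5,
    List.forall_mem_cons.2 ⟨inRho_lett 0,
    List.forall_mem_cons.2 ⟨inRho_lett 4,
    List.forall_mem_cons.2 ⟨inRho_lett 6,
    List.forall_mem_cons.2 ⟨inRho_lett 6,
    List.forall_mem_cons.2 ⟨inRho_lett 5,
    List.forall_mem_cons.2 ⟨inRho_lett 1,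
    List.forall_mem_cons.2 ⟨inRho_lett 4,
    List.forall_mem_nil _⟩⟩⟩⟩⟩⟩⟩⟩⟩⟩⟩⟩⟩⟩⟩⟩⟩⟩⟩⟩⟩⟩⟩) node9_chk.1 node9_chk.2

theorem node19_chk : okRows 111 node19 = true ∧ prodIs [node9, node3] node19 = true := by
  decide +kernel

theorem node19_in : InRho node19 :=
  prodIs_spec (List.forall_mem_cons.2 ⟨node9_in,
    List.forall_mem_cons.2 ⟨node3_in,
    List.forall_mem_nil _⟩⟩) node19_chk.1 node19_chk.2

end CfsgLib.Sporadic.CosetCert.LyIndex.Three
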