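import Cfsg.Agent.Lib.Sporadic.LyIndex.LyRep
import Cfsg.Agent.Lib.Sporadic.LyIndex.Sylow.ThreeData0
import Cfsg.Agent.Lib.Sporadic.LyIndex.Sylow.ThreeData1
import Cfsg.Agent.Lib.Sporadic.LyIndex.Sylow.ThreeData2
import Cfsg.Agent.Lib.Sporadic.LyIndex.Sylow.ThreeData3
import Cfsg.Agent.Lib.Sporadic.LyIndex.Sylow.ThreeNodes4

/-!
# The matrices are products of letters, part 5
-/

set_option autoImplicit false
set_option maxRecDepth 100000

namespace CfsgLib.Sporadic.CosetCert.LyIndex.Three

open LyG2Five WideMatrix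

theorem node28_chk : okRows 111 node28 = true ∧ prodIs [node18, node20, node24, node24, node18, node24, node16, node24, node20, node19, node25, node21, node25, node19, node25, node25, node19] node28 = true := by
  decide +kernel

theorem node28_in : InRho node28 :=
  prodIs_spec (List.forall_mem_cons.2 ⟨node18_in,
    List.forall_mem_cons.2 ⟨node20_in,
    List.forall_mem_cons.2 ⟨node24_in,
    List.forall_mem_cons.2 ⟨node24_in,
    List.forall_mem_cons.2 ⟨node18_in,
    List.forall_mem_cons.2 ⟨node24_in,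
    List.forall_mem_cons.2 ⟨node16_in,
    List.forall_mem_cons.2 ⟨node24_in,
    List.forall_mem_cons.2 ⟨node20_in,
    List.forall_mem_cons.2 ⟨node19_in,
    List.forall_mem_cons.2 ⟨node25_in,
    List.forall_mem_cons.2 ⟨node21_in,
    List.forall_mem_cons.2 ⟨node25_in,
    List.forall_mem_cons.2 ⟨node19_in,
    List.forall_mem_cons.2 ⟨node25_in,
    List.forall_mem_cons.2 ⟨node25_in,
    List.forall_mem_cons.2 ⟨node19_in,
    List.forall_mem_nil _⟩⟩⟩⟩⟩⟩⟩⟩⟩⟩⟩⟩⟩⟩⟩⟩⟩) node28_chk.1 node28_chk.2

theorem node30_chk : okRows 111 node30 = true ∧ prodIs [node26, node28] node30 = true := by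
  decide +kernel

theorem node30_in : InRho node30 :=
  prodIs_spec (List.forall_mem_cons.2 ⟨node26_in,
    List.forall_mem_cons.2 ⟨node28_in,
    List.forall_mem_nil _⟩⟩) node30_chk.1 node30_chk.2

theorem node17_chk : okRows 111 node17 = true ∧ prodIs [node5, node3] node17 = true := by
  decide +kernel

theorem node17_in : InRho node17 :=
  prodIs_spec (List.forall_mem_cons.2 ⟨node5_in,
    List.forall_mem_cons.2 ⟨node3_in,
    List.forall_mem_nil _⟩⟩) node17_chk.1 node17_chk.2

theorem node32_chk : okRows 111 node32 = true ∧ prodIs [node24, node24, node24, node24, node16, node24, node16, node20, node19, node25, node17, node25, node19, node21] node32 = true := by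
  decide +kernel

theorem node32_in : InRho node32 :=
  prodIs_spec (List.forall_mem_cons.2 ⟨node24_in,
    List.forall_mem_cons.2 ⟨node24_in,
    List.forall_mem_cons.2 ⟨node24_in,
    List.forall_mem_cons.2 ⟨node24_in,
    List.forall_mem_cons.2 ⟨node16_in,
    List.forall_mem_cons.2 ⟨node24_in,
    List.forall_mem_cons.2 ⟨node16_in,
    List.forall_mem_cons.2 ⟨node20_in,
    List.forall_mem_cons.2 ⟨node19_in,
    List.forall_mem_cons.2 ⟨node25_in,
    List.forall_mem_cons.2 ⟨node17_in,
    List.forall_mem_cons.2 ⟨node25_in,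
    List.forall_mem_cons.2 ⟨node19_in,
    List.forall_mem_cons.2 ⟨node21_in,
    List.forall_mem_nil _⟩⟩⟩⟩⟩⟩⟩⟩⟩⟩⟩⟩⟩⟩) node32_chk.1 node32_chk.2

end CfsgLib.Sporadic.CosetCert.LyIndex.Three
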