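import Cfsg.Agent.Lib.Sporadic.LyIndex.LyRep
import Cfsg.Agent.Lib.Sporadic.LyIndex.Sylow.ThreeData0
import Cfsg.Agent.Lib.Sporadic.LyIndex.Sylow.ThreeData1
import Cfsg.Agent.Lib.Sporadic.LyIndex.Sylow.ThreeData2
import Cfsg.Agent.Lib.Sporadic.LyIndex.Sylow.ThreeData3
import Cfsg.Agent.Lib.Sporadic.LyIndex.Sylow.ThreeNodes5

/-!
# The matrices are products of letters, part 6
-/

set_option autoImplicit false
set_option maxRecDepth 100000

namespace CfsgLib.Sporadic.CosetCert.LyIndex.Three

open LyG2Five WideMatrix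

theorem node34_chk : okRows 111 node34 = true ∧ prodIs [node26, node32, node32, node32] node34 = true := by
  decide +kernel

theorem node34_in : InRho node34 :=
  prodIs_spec (List.forall_mem_cons.2 ⟨node26_in,
    List.forall_mem_cons.2 ⟨node32_in,
    List.forall_mem_cons.2 ⟨node32_in,
    List.forall_mem_cons.2 ⟨node32_in,
    List.forall_mem_nil _⟩⟩⟩⟩) node34_chk.1 node34_chk.2

theorem node36_chk : okRows 111 node36 = true ∧ prodIs [node16, node18, node24, node16, node24, node16, node20, node18, node25, node17, node21, node19, node25, node17, node19, node17] node36 = true := by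
  decide +kernel

theorem node36_in : InRho node36 :=
  prodIs_spec (List.forall_mem_cons.2 ⟨node16_in,
    List.forall_mem_cons.2 ⟨node18_in,
    List.forall_mem_cons.2 ⟨node24_in,
    List.forall_mem_cons.2 ⟨node16_in,
    List.forall_mem_cons.2 ⟨node24_in,
    List.forall_mem_cons.2 ⟨node16_in,
    List.forall_mem_cons.2 ⟨node20_in,
    List.forall_mem_cons.2 ⟨node18_in,
    List.forall_mem_cons.2 ⟨node25_in,
    List.forall_mem_cons.2 ⟨node17_in,
    List.forall_mem_cons.2 ⟨node21_in,
    List.forall_mem_cons.2 ⟨node19_in,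
    List.forall_mem_cons.2 ⟨node25_in,
    List.forall_mem_cons.2 ⟨node17_in,
    List.forall_mem_cons.2 ⟨node19_in,
    List.forall_mem_cons.2 ⟨node17_in,
    List.forall_mem_nil _⟩⟩⟩⟩⟩⟩⟩⟩⟩⟩⟩⟩⟩⟩⟩⟩) node36_chk.1 node36_chk.2

theorem node38_chk : okRows 111 node38 = true ∧ prodIs [node26, node36, node36, node26] node38 = true := by
  decide +kernel

theorem node38_in : InRho node38 :=
  prodIs_spec (List.forall_mem_cons.2 ⟨node26_in,
    List.forall_mem_cons.2 ⟨node36_in,
    List.forall_mem_cons.2 ⟨node36_in,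
    List.forall_mem_cons.2 ⟨node26_in,
    List.forall_mem_nil _⟩⟩⟩⟩) node38_chk.1 node38_chk.2

end CfsgLib.Sporadic.CosetCert.LyIndex.Three
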