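import Cfsg.Agent.Lib.Sporadic.LyIndex.LyRep
import Cfsg.Agent.Lib.Sporadic.LyIndex.Sylow.TwoData0
import Cfsg.Agent.Lib.Sporadic.LyIndex.Sylow.TwoData1

/-!
# The matrices are products of letters, part 0
-/

set_option autoImplicit false
set_option maxRecDepth 100000

namespace CfsgLib.Sporadic.CosetCert.LyIndex.Two

open LyG2Five WideMatrix

theorem node2_chk : okRows 111 node2 = true ∧ prodIs [LyG2Five.lett111 7, LyG2Five.lett111 9, LyG2Five.lett111 0] node2 = true := by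
  decide +kernel

theorem node2_in : InRho node2 :=
  prodIs_spec (List.forall_mem_cons.2 ⟨inRho_lett 7,
    List.forall_mem_cons.2 ⟨inRho_lett 9,
    List.forall_mem_cons.2 ⟨inRho_lett 0,
    List.forall_mem_nil _⟩⟩⟩) node2_chk.1 node2_chk.2

theorem node6_chk : okRows 111 node6 = true ∧ prodIs [LyG2Five.lett111 5, LyG2Five.lett111 9, LyG2Five.lett111 7, LyG2Five.lett111 7, LyG2Five.lett111 10, LyG2Five.lett111 4, LyG2Five.lett111 7, LyG2Five.lett111 7, LyG2Five.lett111 5, LyG2Five.lett111 9, LyG2Five.lett111 7, LyG2Five.lett111 7, LyG2Five.lett111 10, LyG2Five.lett111 4, LyG2Five.lett111 7, LyG2Five.lett111 7, LyG2Five.lett111 5, LyG2Five.lett111 9] node6 = true := by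
  decide +kernel

theorem node6_in : InRho node6 :=
  prodIs_spec (List.forall_mem_cons.2 ⟨inRho_lett 5,
    List.forall_mem_cons.2 ⟨inRho_lett 9,
    List.forall_mem_cons.2 ⟨inRho_lett 7,
    List.forall_mem_cons.2 ⟨inRho_lett 7,
    List.forall_mem_cons.2 ⟨inRho_lett 10,
    List.forall_mem_cons.2 ⟨inRho_lett 4,
    List.forall_mem_cons.2 ⟨inRho_lett 7,
    List.forall_mem_cons.2 ⟨inRho_lett 7,
    List.forall_mem_cons.2 ⟨inRho_lett 5,
    List.forall_mem_cons.2 ⟨inRho_lett 9,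
    List.forall_mem_cons.2 ⟨inRho_lett 7,
    List.forall_mem_cons.2 ⟨inRho_lett 7,
    List.forall_mem_cons.2 ⟨inRho_lett 10,
    List.forall_mem_cons.2 ⟨inRho_lett 4,
    List.forall_mem_cons.2 ⟨inRho_lett 7,
    List.forall_mem_cons.2 ⟨inRho_lett 7,
    List.forall_mem_cons.2 ⟨inRho_lett 5,
    List.forall_mem_cons.2 ⟨inRho_lett 9,
    List.forall_mem_nil _⟩⟩⟩⟩⟩⟩⟩⟩⟩⟩⟩⟩⟩⟩⟩⟩⟩⟩) node6_chk.1 node6_chk.2

theorem node10_chk : okRows 111 node10 = true ∧ prodIs [node2, node6] node10 = true := by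
  decide +kernel

theorem node10_in : InRho node10 :=
  prodIs_spec (List.forall_mem_cons.2 ⟨node2_in,
    List.forall_mem_cons.2 ⟨node6_in,
    List.forall_mem_nil _⟩⟩) node10_chk.1 node10_chk.2

theorem node7_chk : okRows 111 node7 = true ∧ prodIs [LyG2Five.lett111 10, LyG2Five.lett111 4, LyG2Five.lett111 6, LyG2Five.lett111 6, LyG2Five.lett111 5, LyG2Five.lett111 9, LyG2Five.lett111 6, LyG2Five.lett111 6, LyG2Five.lett111 10, LyG2Five.lett111 4, LyG2Five.lett111 6, LyG2Five.lett111 6, LyG2Five.lett111 5, LyG2Five.lett111 9, LyG2Five.lett111 6, LyG2Five.lett111 6, LyG2Five.lett111 10, LyG2Five.lett111 4] node7 = true := by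
  decide +kernel

theorem node7_in : InRho node7 :=
  prodIs_spec (List.forall_mem_cons.2 ⟨inRho_lett 10,
    List.forall_mem_cons.2 ⟨inRho_lett 4,
    List.forall_mem_cons.2 ⟨inRho_lett 6,
    List.forall_mem_cons.2 ⟨inRho_lett 6,
    List.forall_mem_cons.2 ⟨inRho_lett 5,
    List.forall_mem_cons.2 ⟨inRho_lett 9,
    List.forall_mem_cons.2 ⟨inRho_lett 6,
    List.forall_mem_cons.2 ⟨inRho_lett 6,
    List.forall_mem_cons.2 ⟨inRho_lett 10,
    List.forall_mem_cons.2 ⟨inRho_lett 4,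
    List.forall_mem_cons.2 ⟨inRho_lett 6,
    List.forall_mem_cons.2 ⟨inRho_lett 6,
    List.forall_mem_cons.2 ⟨inRho_lett 5,
    List.forall_mem_cons.2 ⟨inRho_lett 9,
    List.forall_mem_cons.2 ⟨inRho_lett 6,
    List.forall_mem_cons.2 ⟨inRho_lett 6,
    List.forall_mem_cons.2 ⟨inRho_lett 10,
    List.forall_mem_cons.2 ⟨inRho_lett 4,
    List.forall_mem_nil _⟩⟩⟩⟩⟩⟩⟩⟩⟩⟩⟩⟩⟩⟩⟩⟩⟩⟩) node7_chk.1 node7_chk.2

end CfsgLib.Sporadic.CosetCert.LyIndex.Two
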