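import Cfsg.Agent.Lib.Sporadic.LyIndex.LyRep
import Cfsg.Agent.Lib.Sporadic.LyIndex.Sylow.TwoData0
import Cfsg.Agent.Lib.Sporadic.LyIndex.Sylow.TwoData1
import Cfsg.Agent.Lib.Sporadic.LyIndex.Sylow.TwoNodes0

/-!
# The matrices are products of letters, part 1
-/

set_option autoImplicit false
set_option maxRecDepth 100000

namespace CfsgLib.Sporadic.CosetCert.LyIndex.Two

open LyG2Five WideMatrix

theorem node12_chk : okRows 111 node12 = true ∧ prodIs [node2, node7] node12 = true := by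
  decide +kernel

theorem node12_in : InRho node12 :=
  prodIs_spec (List.forall_mem_cons.2 ⟨node2_in,
    List.forall_mem_cons.2 ⟨node7_in,
    List.forall_mem_nil _⟩⟩) node12_chk.1 node12_chk.2

theorem node0_chk : okRows 111 node0 = true ∧ prodIs [LyG2Five.lett111 3, LyG2Five.lett111 0] node0 = true := by
  decide +kernel

theorem node0_in : InRho node0 :=
  prodIs_spec (List.forall_mem_cons.2 ⟨inRho_lett 3,
    List.forall_mem_cons.2 ⟨inRho_lett 0,
    List.forall_mem_nil _⟩⟩) node0_chk.1 node0_chk.2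

theorem node9_chk : okRows 111 node9 = true ∧ prodIs [LyG2Five.lett111 5, LyG2Five.lett111 1, LyG2Five.lett111 4, LyG2Five.lett111 6, LyG2Five.lett111 6, LyG2Five.lett111 5, LyG2Five.lett111 0, LyG2Five.lett111 4, LyG2Five.lett111 6, LyG2Five.lett111 6, LyG2Five.lett111 5, LyG2Five.lett111 1, LyG2Five.lett111 4, LyG2Five.lett111 6, LyG2Five.lett111 6, LyG2Five.lett111 5, LyG2Five.lett111 0, LyG2Five.lett111 4, LyG2Five.lett111 6, LyG2Five.lett111 6, LyG2Five.lett111 5, LyG2Five.lett111 1, LyG2Five.lett111 4] node9 = true := by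
  decide +kernel

theorem node9_in : InRho node9 :=
  prodIs_spec (List.forall_mem_cons.2 ⟨inRho_lett 5,
    List.forall_mem_cons.2 ⟨inRho_lett 1,
    List.forall_mem_cons.2 ⟨inRho_lett 4,
    List.forall_mem_cons.2 ⟨inRho_lett 6,
    List.forall_mem_cons.2 ⟨inRho_lett 6,
    List.forall_mem_cons.2 ⟨inRho_lett 5,
    List.forall_mem_cons.2 ⟨inRho_lett 0,
    List.forall_mem_cons.2 ⟨inRho_lett 4,
    List.forall_mem_cons.2 ⟨inRho_lett 6,
    List.forall_mem_cons.2 ⟨inRho_lett 6,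
    List.forall_mem_cons.2 ⟨inRho_lett 5,
    List.forall_mem_cons.2 ⟨inRho_lett 1,
    List.forall_mem_cons.2 ⟨inRho_lett 4,
    List.forall_mem_cons.2 ⟨inRho_lett 6,
    List.forall_mem_cons.2 ⟨inRho_lett 6,
    List.forall_mem_cons.2 ⟨inRho_lett 5,
    List.forall_mem_cons.2 ⟨inRho_lett 0,
    List.forall_mem_cons.2 ⟨inRho_lett 4,
    List.forall_mem_cons.2 ⟨inRho_lett 6,
    List.forall_mem_cons.2 ⟨inRho_lett 6,
    List.forall_mem_cons.2 ⟨inRho_lett 5,
    List.forall_mem_cons.2 ⟨inRho_lett 1,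
    List.forall_mem_cons.2 ⟨inRho_lett 4,
    List.forall_mem_nil _⟩⟩⟩⟩⟩⟩⟩⟩⟩⟩⟩⟩⟩⟩⟩⟩⟩⟩⟩⟩⟩⟩⟩) node9_chk.1 node9_chk.2

theorem node1_chk : okRows 111 node1 = true ∧ prodIs [LyG2Five.lett111 1, LyG2Five.lett111 2] node1 = true := by
  decide +kernel

theorem node1_in : InRho node1 :=
  prodIs_spec (List.forall_mem_cons.2 ⟨inRho_lett 1,
    List.forall_mem_cons.2 ⟨inRho_lett 2,
    List.forall_mem_nil _⟩⟩) node1_chk.1 node1_chk.2

end CfsgLib.Sporadic.CosetCert.LyIndex.Two
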