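import Cfsg.Agent.Lib.Sporadic.LyIndex.LyRep
import Cfsg.Agent.Lib.Sporadic.LyIndex.Sylow.TwoData0
import Cfsg.Agent.Lib.Sporadic.LyIndex.Sylow.TwoData1
import Cfsg.Agent.Lib.Sporadic.LyIndex.Sylow.TwoNodes1

/-!
# The matrices are products of letters, part 2
-/

set_option autoImplicit false
set_option maxRecDepth 100000

namespace CfsgLib.Sporadic.CosetCert.LyIndex.Two

open LyG2Five WideMatrix

theorem node8_chk : okRows 111 node8 = true ∧ prodIs [LyG2Five.lett111 5, LyG2Five.lett111 0, LyG2Five.lett111 4, LyG2Five.lett111 7, LyG2Five.lett111 7, LyG2Five.lett111 5, LyG2Five.lett111 1, LyG2Five.lett111 4, LyG2Five.lett111 7, LyG2Five.lett111 7, LyG2Five.lett111 5, LyG2Five.lett111 0, LyG2Five.lett111 4, LyG2Five.lett111 7, LyG2Five.lett111 7, LyG2Five.lett111 5, LyG2Five.lett111 1, LyG2Five.lett111 4, LyG2Five.lett111 7, LyG2Five.lett111 7, LyG2Five.lett111 5, LyG2Five.lett111 0, LyG2Five.lett111 4] node8 = true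 := by
  decide +kernel

theorem node8_in : InRho node8 :=
  prodIs_spec (List.forall_mem_cons.2 ⟨inRho_lett 5,
    List.forall_mem_cons.2 ⟨inRho_lett 0,
    List.forall_mem_cons.2 ⟨inRho_lett 4,
    List.forall_mem_cons.2 ⟨inRho_lett 7,
    List.forall_mem_cons.2 ⟨inRho_lett 7,
    List.forall_mem_cons.2 ⟨inRho_lett 5,
    List.forall_mem_cons.2 ⟨inRho_lett 1,
    List.forall_mem_cons.2 ⟨inRho_lett 4,
    List.forall_mem_cons.2 ⟨inRho_lett 7,
    List.forall_mem_cons.2 ⟨inRho_lett 7,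
    List.forall_mem_cons.2 ⟨inRho_lett 5,
    List.forall_mem_cons.2 ⟨inRho_lett 0,
    List.forall_mem_cons.2 ⟨inRho_lett 4,
    List.forall_mem_cons.2 ⟨inRho_lett 7,
    List.forall_mem_cons.2 ⟨inRho_lett 7,
    List.forall_mem_cons.2 ⟨inRho_lett 5,
    List.forall_mem_cons.2 ⟨inRho_lett 1,
    List.forall_mem_cons.2 ⟨inRho_lett 4,
    List.forall_mem_cons.2 ⟨inRho_lett 7,
    List.forall_mem_cons.2 ⟨inRho_lett 7,
    List.forall_mem_cons.2 ⟨inRho_lett 5,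
    List.forall_mem_cons.2 ⟨inRho_lett 0,
    List.forall_mem_cons.2 ⟨inRho_lett 4,
    List.forall_mem_nil _⟩⟩⟩⟩⟩⟩⟩⟩⟩⟩⟩⟩⟩⟩⟩⟩⟩⟩⟩⟩⟩⟩⟩) node8_chk.1 node8_chk.2

theorem node14_chk : okRows 111 node14 = true ∧ prodIs [node0, node9, node2, node1, node9, node2, node9, node2, node8] node14 = true := by
  decide +kernel

theorem node14_in : InRho node14 :=
  prodIs_spec (List.forall_mem_cons.2 ⟨node0_in,
    List.forall_mem_cons.2 ⟨node9_in,
    List.forall_mem_cons.2 ⟨node2_in,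
    List.forall_mem_cons.2 ⟨node1_in,
    List.forall_mem_cons.2 ⟨node9_in,
    List.forall_mem_cons.2 ⟨node2_in,
    List.forall_mem_cons.2 ⟨node9_in,
    List.forall_mem_cons.2 ⟨node2_in,
    List.forall_mem_cons.2 ⟨node8_in,
    List.forall_mem_nil _⟩⟩⟩⟩⟩⟩⟩⟩⟩) node14_chk.1 node14_chk.2

end CfsgLib.Sporadic.CosetCert.LyIndex.Two
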